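import Mathlib

/-!
# Hypersurfaces linear in one variable with unit coefficient
-/

set_option autoImplicit false
universe u
open MvPolynomial

namespace Groth.Agent.WeierBlow

/-- `R[X₀, X₁]/(p - X₀ q)` is smooth when `q` is a unit modulo `p - X₀ q` (here `p, q ∈ R[X₁]`). -/
theorem smooth_of_linear {R : Type u} [CommRing R] (p q : Polynomial R)
    (hq : IsUnit (Ideal.Quotient.mk (Ideal.span {Polynomial.aeval (X 1 : MvPolynomial (Fin 2) R) p -
      X 0 * Polynomial.aeval (X 1 : MvPolynomial (Fin 2) R) q}) (Polynomial.aeval (X 1 : MvPolynomial (Fin 2) R) q))) :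
    Algebra.Smooth R (MvPolynomial (Fin 2) R ⧸ Ideal.span {Polynomial.aeval (X 1 : MvPolynomial (Fin 2) R) p -
      X 0 * Polynomial.aeval (X 1 : MvPolynomial (Fin 2) R) q}) := by
  let f : MvPolynomial (Fin 2) R := Polynomial.aeval (X 1) p - X 0 * Polynomial.aeval (X 1) q
  let Q := MvPolynomial (Fin 2) R ⧸ Ideal.span {f}
  haveI : Algebra.FinitePresentation R Q :=
    Algebra.FinitePresentation.quotient (Submodule.fg_span (Set.finite_singleton _))
  refine ⟨Algebra.FormallySmooth.of_comp_surjective fun T _ _ I hI g => ?_, inferInstance⟩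
  let G : MvPolynomial (Fin 2) R →ₐ[R] T ⧸ I := g.comp (Ideal.Quotient.mkₐ R _)
  choose ξ hξ using fun i => Ideal.Quotient.mk_surjective (G (X i))
  have hqT : IsUnit (Ideal.Quotient.mkₐ R I (Polynomial.aeval (ξ 1) q)) := by
    rw [← Polynomial.aeval_algHom_apply, Ideal.Quotient.mkₐ_eq_mk, hξ, Polynomial.aeval_algHom_apply]
    exact hq.map g
  obtain ⟨v, hv⟩ : IsUnit (Polynomial.aeval (ξ 1) q) := by
    obtain ⟨w, hw⟩ := hqT.exists_right_inv
    obtain ⟨w, rfl⟩ := Ideal.Quotient.mk_surjective w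
    have : 1 - Polynomial.aeval (ξ 1) q * w ∈ I := by
      rw [← Ideal.Quotient.eq_zero_iff_mem, map_sub, map_one, map_mul, sub_eq_zero]
      exact hw.symm
    have h2 : IsUnit (Polynomial.aeval (ξ 1) q * w) := by
      have h := IsNilpotent.isUnit_one_sub (r := 1 - Polynomial.aeval (ξ 1) q * w)
        ⟨2, by rw [← Ideal.mem_bot, ← hI]; exact Ideal.pow_mem_pow this 2⟩
      rwa [sub_sub_cancel] at h
    exact isUnit_of_mul_isUnit_left h2
  let ζ : Fin 2 → T := ![(v⁻¹ : Tˣ).val * Polynomial.aeval (ξ 1) p, ξ 1]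
  let F : MvPolynomial (Fin 2) R →ₐ[R] T := aeval ζ
  have hf : F f = 0 := by
    simp only [F, f, map_sub, map_mul, aeval_X, ← Polynomial.aeval_algHom_apply]
    show Polynomial.aeval (ξ 1) p - (v⁻¹ : Tˣ).val * Polynomial.aeval (ξ 1) p * Polynomial.aeval (ξ 1) q = 0
    rw [← hv, mul_comm _ (v : T), ← mul_assoc, Units.mul_inv, one_mul, sub_self]
  have hker : ∀ y ∈ Ideal.span {f}, F y = 0 := fun y hy => by
    obtain ⟨c, rfl⟩ := Ideal.mem_span_singleton'.1 hy
    rw [map_mul, hf, mul_zero]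
  refine ⟨Ideal.Quotient.liftₐ _ F hker, Ideal.Quotient.algHom_ext _ (MvPolynomial.algHom_ext fun i => ?_)⟩
  show Ideal.Quotient.mk I (F (X i)) = G (X i)
  fin_cases i
  · have hG : G f = 0 := by
      show g (Ideal.Quotient.mk _ f) = 0
      rw [Ideal.Quotient.eq_zero_iff_mem.2 (Ideal.mem_span_singleton_self _), map_zero]
    simp only [f, map_sub, map_mul, ← Polynomial.aeval_algHom_apply, ← hξ] at hG
    rw [← Ideal.Quotient.mkₐ_eq_mk R I, Polynomial.aeval_algHom_apply, Polynomial.aeval_algHom_apply,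
      sub_eq_zero] at hG
    show Ideal.Quotient.mkₐ R I (F (X 0)) = G (X 0)
    rw [show F (X 0) = (v⁻¹ : Tˣ).val * Polynomial.aeval (ξ 1) p from aeval_X _ _, map_mul, hG, ← hξ,
      ← Ideal.Quotient.mkₐ_eq_mk R I, mul_left_comm, ← map_mul, ← hv, Units.inv_mul, map_one, mul_one]
  · show Ideal.Quotient.mk I (F (X 1)) = G (X 1)
    rw [show F (X 1) = ξ 1 from aeval_X _ _, hξ]

end Groth.Agent.WeierBlow
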